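import Cfsg.Agent.H28.IBr.Traces
import Cfsg.Agent.H26.CharOrtho
import Cfsg.Agent.H42.Arith

/-!
# The Brauer characters of a block, with their decomposition numbers
-/

set_option autoImplicit false
set_option maxHeartbeats 600000
set_option synthInstance.maxHeartbeats 200000

open scoped ComplexConjugate

namespace Cfsg.Agent.H28.IBr

open Cfsg.Agent.H41 (ResField localRing res)
open Cfsg.Agent.H40

universe u

/-- The irreducible Brauer characters of a block with their decomposition numbers. -/
structure BrauerSystem (p : ℕ) {G : Type u} [Group G] [Fintype G]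
    (B : Set (Cfsg.IrrCharacter G)) : Type (u + 1) where
  /-- the index type -/
  ι : Type u
  /-- finiteness -/
  fintype : Fintype ι
  /-- the Brauer characters -/
  φ : ι → G → ℂ
  /-- the decomposition numbers -/
  d : Cfsg.IrrCharacter G → ι → ℕ
  /-- a lift of each Brauer character to the ordinary characters -/
  a : ι → Cfsg.IrrCharacter G → ℤ
  φ_conj : ∀ i u g, φ i (u * g * u⁻¹) = φ i g
  φ_eq : ∀ i x, ¬ p ∣ orderOf x → φ i x = ∑ χ : Cfsg.IrrCharacter G, (a i χ : ℂ) * (χ : G → ℂ) x
  decomp : ∀ χ ∈ B, ∀ x, ¬ p ∣ orderOf x →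
    (χ : G → ℂ) x = ∑ i ∈ @Finset.univ ι fintype, (d χ i : ℂ) * φ i x
  d_eq_zero : ∀ χ, χ ∉ B → ∀ i, d χ i = 0
  sum_a_d_self : ∀ i, ∑ χ : Cfsg.IrrCharacter G, a i χ * (d χ i : ℤ) = 1
  sum_a_d_ne : ∀ i j, i ≠ j → ∑ χ : Cfsg.IrrCharacter G, a i χ * (d χ j : ℤ) = 0
  φ_one : ∀ i, ∃ n : ℕ, 0 < n ∧ φ i 1 = n
  dvd_degree : ∀ i, p ^ (Nat.card G).factorization p ∣
    ∑ χ : Cfsg.IrrCharacter G, d χ i * Cfsg.charDegree (χ : G → ℂ)

attribute [instance] BrauerSystem.fintype

variable {p : ℕ} [Fact p.Prime] {M : Ideal Cfsg.AlgInt} [M.IsMaximal]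
variable {G : Type u} [Group G] [Fintype G]

/-- A natural number that is a `p`-power multiple in the local ring is one in `ℕ`. -/
theorem pow_dvd_of_mem_localRing (hM : Cfsg.IsPModular p M) :
    ∀ (a n : ℕ) (z : localRing M), (p : ℂ) ^ a * (z : ℂ) = n → p ^ a ∣ n := by
  intro a
  induction a with
  | zero => intro n z _; simp
  | succ a ih =>
    intro n z hz
    have h : (n : localRing M) = (p : localRing M) * ((p : localRing M) ^ a * z) := by
      apply Subtype.ext
      push_cast
      rw [← hz, pow_succ']
      ring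
    have h1 : (n : ResField M) = 0 := by
      rw [← map_natCast (res M), h, map_mul, map_natCast,
        Cfsg.Agent.H41.IsPModular.natCast_resField hM, zero_mul]
    obtain ⟨m, rfl⟩ := (Cfsg.Agent.H41.IsPModular.natCast_eq_zero_iff hM n).1 h1
    rw [pow_succ']
    refine Nat.mul_dvd_mul_left p (ih m z (mul_left_cancel₀
      (Nat.cast_ne_zero.2 (Fact.out : p.Prime).ne_zero : (p : ℂ) ≠ 0) ?_))
    rw [← mul_assoc, ← pow_succ', hz]
    push_cast
    rfl

/-- Every block has a system of Brauer characters. -/
theorem exists_brauerSystem (hM : Cfsg.IsPModular p M) {B : Set (Cfsg.IrrCharacter G)}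
    (hB : Cfsg.IsPBlock M B) : Nonempty (BrauerSystem p B) := by
  classical
  have : IsAlgClosed (ResField M) := Cfsg.Agent.H43.D1.isAlgClosed_resField M
  have : FiniteDimensional (ResField M) (MonoidAlgebra (ResField M) G) :=
    Module.Finite.equiv (MonoidAlgebra.coeffLinearEquiv (ResField M)).symm
  set eB : MonoidAlgebra (ResField M) G := redG M G (locE hB) with heB
  have heBi : eB * eB = eB := by rw [heB, ← map_mul, locE_mul_self]
  have heBc : ∀ a : MonoidAlgebra (ResField M) G, a * eB = eB * a := by
    intro a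
    obtain ⟨A, -, hA⟩ := exists_invariant_lift (M := M) (Q := Subgroup.zpowers (1 : G))
      (mem_invAlg_all a)
    rw [← hA, heB, ← map_mul, ← map_mul, (commute_locE hB A).eq]
  obtain ⟨J, hJ, hJsum, -⟩ := exists_prim_decomposition (ResField M) heBi
  -- a maximal set of pairwise inequivalent members
  obtain ⟨I, hI, hImax⟩ := Finset.exists_max_image
    (J.powerset.filter fun s => ∀ i ∈ s, ∀ j ∈ s, IdemEquiv i j → i = j) Finset.card
    ⟨∅, by simp⟩
  rw [Finset.mem_filter, Finset.mem_powerset] at hI
  obtain ⟨hIJ, hIne⟩ := hI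
  have hprim : ∀ i : I, IsPrimIdem (i : MonoidAlgebra (ResField M) G) := fun i => (hJ i (hIJ i.2)).1
  have hIeB : ∀ i : I, eB * (i : MonoidAlgebra (ResField M) G) = i := fun i => (hJ i (hIJ i.2)).2.1
  have hcover : ∀ f, IsPrimIdem f → eB * f = f → ∃ i : I, IdemEquiv (i : MonoidAlgebra (ResField M) G) f := by
    intro f hf hfe
    have h1 : resIdem (ResField M) f eB = 1 := hf.resIdem_eq (by
      rw [mul_assoc, hfe, hf.idem, one_smul, sub_self]
      exact IsNilpotent.zero)
    obtain ⟨j, hj, hne⟩ : ∃ j ∈ J, resIdem (ResField M) f j ≠ 0 := by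
      by_contra hc
      push Not at hc
      have h0 : ∀ s ⊆ J, resIdem (ResField M) f (∑ j ∈ s, j) = 0 := by
        intro s
        induction s using Finset.induction with
        | empty =>
          intro _
          rw [Finset.sum_empty, ← zero_smul (ResField M) (0 : MonoidAlgebra (ResField M) G),
            hf.resIdem_smul, zero_mul]
        | @insert a s ha ih =>
          intro hs
          rw [Finset.sum_insert ha, hf.resIdem_add, hc a (hs (Finset.mem_insert_self a s)),
            ih fun x hx => hs (Finset.mem_insert_of_mem hx), add_zero]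
      have := h0 J (Finset.Subset.refl J)
      rw [hJsum, h1] at this
      exact one_ne_zero this
    have hfj : IdemEquiv f j := hf.idemEquiv (hJ j hj).1 (k := ResField M) (a := 1) (b := 1)
      (by rwa [one_mul, mul_one])
    obtain ⟨i, hi, hij⟩ : ∃ i ∈ I, IdemEquiv i j := by
      by_contra hc
      push Not at hc
      have hjI : j ∉ I := fun h => hc j h (idemEquiv_refl (hJ j hj).1.idem)
      have h := hImax (insert j I) (Finset.mem_filter.2 ⟨Finset.mem_powerset.2
        (Finset.insert_subset hj hIJ), fun a ha b hb hab => by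
          rcases Finset.mem_insert.1 ha with h1 | h1 <;> rcases Finset.mem_insert.1 hb with h2 | h2
          · rw [h1, h2]
          · exact absurd (h1 ▸ hab).symm (hc b h2)
          · exact absurd (h2 ▸ hab) (hc a h1)
          · exact hIne a h1 b h2 hab⟩)
      rw [Finset.card_insert_of_notMem hjI] at h
      omega
    exact ⟨⟨i, hi⟩, idemEquiv_trans hij hfj.symm (hprim ⟨i, hi⟩).idem (hJ j hj).1.idem hf.idem⟩
  -- lifts and decomposition numbers
  have hliftex : ∀ i : I, ∃ E : MonoidAlgebra (localRing M) G,
      E * E = E ∧ redG M G E = i ∧ locE hB * E = E := by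
    intro i
    obtain ⟨F, -, hFF, hF⟩ := exists_idem_lift (M := M)
      (Q := Subgroup.zpowers (1 : G)) (mem_invAlg_all (i : MonoidAlgebra (ResField M) G))
      (hprim i).idem
    refine ⟨locE hB * F, ?_, by rw [map_mul, hF, ← heB, hIeB], by rw [← mul_assoc, locE_mul_self]⟩
    rw [show locE hB * F * (locE hB * F) = locE hB * (F * locE hB) * F by simp only [mul_assoc],
      (commute_locE hB F).eq, ← mul_assoc, locE_mul_self, mul_assoc, hFF]
  choose E hEE hEi hEB using hliftex
  have hdex : ∀ (χ : Cfsg.IrrCharacter G) (i : I), ∃ n : ℕ, trAt 1 (χ : G → ℂ) (E i) = n :=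
    fun χ i => exists_natCast_trAt (hEE i) χ
  choose d hd using hdex
  have hd0 : ∀ χ : Cfsg.IrrCharacter G, χ ∉ B → ∀ i, d χ i = 0 := by
    intro χ hχ i
    have h := trAt_locE_mul hB χ (E i)
    rw [hEB, if_neg hχ, hd χ i] at h
    exact_mod_cast h
  let V := fun i : I => MonoidAlgebra (ResField M) G ⧸ idemKer (k := ResField M) (hprim i)
  let ρ : ∀ i : I, G →* Module.End (ResField M) (V i) := fun i =>
    (idemHom (k := ResField M) (hprim i)).toMonoidHom.comp (MonoidAlgebra.of (ResField M) G)
  let mult : I → MonoidAlgebra (ResField M) G → ℕ := fun i e =>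
    rk (idemHom (k := ResField M) (hprim i) e)
  have hmult_ne : ∀ i j : I, i ≠ j → mult i (j : MonoidAlgebra (ResField M) G) = 0 := by
    intro i j hij
    show rk _ = 0
    rw [idemHom_eq_zero (hprim i) (hprim j) fun h => hij (Subtype.ext (hIne _ i.2 _ j.2 h)), rk_zero]
  -- the key identity
  have key : ∀ χ : Cfsg.IrrCharacter G, χ ∈ B → ∀ e : MonoidAlgebra (ResField M) G, e * e = e →
      trBar (M := M) 1 (χ : G → ℂ) e = ∑ i : I, (d χ i : ℂ) * (mult i e : ℂ) := by
    intro χ hχ e he
    have hl := isLocTrace_irr (M := M) χ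
    refine idem_induction (ResField M) (motive := fun e =>
      trBar (M := M) 1 (χ : G → ℂ) e = ∑ i : I, (d χ i : ℂ) * (mult i e : ℂ)) ?zero ?prim ?add he
    case zero => simp [mult, trBar_zero' hM hl, rk_zero]
    case add =>
      intro f g hf hg hfg hgf h1 h2
      rw [trBar_orth hM hl hf hg hfg hgf, h1, h2, ← Finset.sum_add_distrib]
      refine Finset.sum_congr rfl fun i _ => ?_
      have : mult i (f + g) = mult i f + mult i g := by
        show rk _ = rk _ + rk _
        rw [map_add]
        exact rk_add ((show IsIdempotentElem f from hf).map _) ((show IsIdempotentElem g from hg).map _)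
          (by rw [← map_mul, hfg, map_zero]) (by rw [← map_mul, hgf, map_zero])
      rw [this]
      push_cast
      ring
    case prim =>
      intro f hf
      rcases hf.prim (eB * f) (by
          rw [show eB * f * (eB * f) = eB * (f * eB) * f by simp only [mul_assoc], heBc, ← mul_assoc,
            heBi, mul_assoc, hf.idem])
        (by rw [← mul_assoc, heBc, mul_assoc, hf.idem]) (by rw [mul_assoc, hf.idem]) with hz | hz
      · obtain ⟨F, -, hFF, hF⟩ := exists_idem_lift (M := M) (Q := Subgroup.zpowers (1 : G))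
          (mem_invAlg_all f) hf.idem
        have hEF : locE hB * F * (locE hB * F) = locE hB * F := by
          rw [show locE hB * F * (locE hB * F) = locE hB * (F * locE hB) * F by simp only [mul_assoc],
            (commute_locE hB F).eq, ← mul_assoc, locE_mul_self, mul_assoc, hFF]
        have h1 : trBar (M := M) 1 (χ : G → ℂ) f = 0 := by
          have h2 := trBar_redG hM hl hEF
          rw [map_mul, hF, ← heB, hz, trBar_zero' hM hl, trAt_locE_mul hB, if_pos hχ,
            ← trBar_redG hM hl hFF, hF] at h2
          exact h2.symm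
        rw [h1]
        refine (Finset.sum_eq_zero fun i _ => ?_).symm
        have : mult i f = 0 := by
          show rk _ = 0
          rw [idemHom_eq_zero (hprim i) hf fun hequiv => ?_, rk_zero]
          obtain ⟨α, β, -, h2, h3, h4⟩ := hequiv
          refine hf.ne_zero ?_
          have hβ : β * (i : MonoidAlgebra (ResField M) G) = β := by
            rw [← h2, mul_assoc, (hprim i).idem]
          rw [← hz, ← h4]
          conv_lhs => rw [← hβ]
          conv_rhs => rw [← hβ, ← mul_assoc eB, ← mul_assoc eB, ← heBc β, mul_assoc β eB, hIeB]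
        rw [this, Nat.cast_zero, mul_zero]
      · obtain ⟨i₀, hi₀⟩ := hcover f hf hz
        rw [Finset.sum_eq_single i₀]
        · have : mult i₀ f = 1 := rk_idemHom_of_equiv (hprim i₀) hf hi₀
          rw [this, Nat.cast_one, mul_one,
            ← trBar_idemEquiv hM hl (hprim i₀).idem hf.idem hi₀, ← hEi, trBar_redG hM hl (hEE i₀), hd]
        · intro i _ hi
          have : mult i f = 0 := by
            show rk _ = 0
            rw [idemHom_eq_zero (hprim i) hf fun h => hi (Subtype.ext (hIne _ i.2 _ i₀.2
              (idemEquiv_trans h hi₀.symm (hprim i).idem hf.idem (hprim i₀).idem))), rk_zero]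
          rw [this, Nat.cast_zero, mul_zero]
        · simp
  -- values at regular elements
  have hval : ∀ χ : Cfsg.IrrCharacter G, χ ∈ B → ∀ x : G, ¬ p ∣ orderOf x →
      (χ : G → ℂ) x = ∑ i : I, (d χ i : ℂ) * bchar (ρ i) x := by
    intro χ hχ x hx
    have hl := isLocTrace_irr (M := M) χ
    set m := orderOf x with hmdef
    have hm : 0 < m := orderOf_pos x
    have hc := natCast_mul_invN hM hx
    have hω := isPrimitiveRoot_root (M := M) hm
    have hy : (MonoidAlgebra.of (localRing M) G x) ^ m = 1 := by
      rw [← map_pow, pow_orderOf_eq_one, map_one]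
    set ε := eigen (invN M m) (root M m) m (MonoidAlgebra.of (localRing M) G x) with hε
    have hidem : ∀ l, ε l * ε l = ε l := fun l => isIdempotentElem_eigen hc hω.pow_eq_one hm hy l
    have h1 : (χ : G → ℂ) x = ∑ l ∈ Finset.range m,
        ((root M m ^ l : localRing M) : ℂ) * trAt 1 (χ : G → ℂ) (ε l) := by
      rw [← trAt_sum_smul, hε, sum_pow_smul_eigen hω hc hm hy, trAt_of]
    rw [h1]
    simp only [bchar, bcharLoc, ← hmdef, AddSubmonoidClass.coe_finsetSum, MulMemClass.coe_mul,
      SubmonoidClass.coe_pow, Finset.mul_sum]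
    rw [Finset.sum_comm]
    refine Finset.sum_congr rfl fun l _ => ?_
    have hmr : ∀ i : I, mult i (redG M G (ε l)) = rk (eigBar M m (ρ i x) l) := by
      intro i
      show rk _ = _
      congr 1
      rw [hε, map_eigen (res M) (redG M G) redG_smul, redG_of]
      exact map_eigen (RingHom.id (ResField M)) (idemHom (k := ResField M) (hprim i)).toRingHom
        (fun r s => map_smul (idemHom (k := ResField M) (hprim i)) r s) _ _ m _ l
    rw [← trBar_redG hM hl (hidem l), key χ hχ _ (by rw [← map_mul, hidem l]), Finset.mul_sum]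
    refine Finset.sum_congr rfl fun i _ => ?_
    rw [hmr]
    push_cast
    ring
  -- lifts of the Brauer characters
  have haex : ∀ (i : I) (χ : Cfsg.IrrCharacter G), ∃ z : ℤ,
      Cfsg.classInner (theta p (ρ i)) χ.1 = (z : ℂ) := fun i χ =>
    Cfsg.Agent.H42.exists_int_classInner (theta_mem_genChars hM (ρ i)) χ
  choose a ha using haex
  have htheta : ∀ (i : I) (g : G),
      theta p (ρ i) g = ∑ χ : Cfsg.IrrCharacter G, (a i χ : ℂ) * (χ : G → ℂ) g := by
    intro i g
    have h := congrFun (Cfsg.Agent.H26.class_function_expansion (theta p (ρ i))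
      (fun g u => theta_conj (ρ i) u g)) g
    rw [h]
    simp [Finset.sum_apply, ha]
  -- the matrix of pairings
  let N : Matrix I I (localRing M) := Matrix.of fun i j =>
    ∑ g : G, (E j).coeff g * thetaLoc p (ρ i) g
  have hN : ∀ i j, ((N i j : localRing M) : ℂ) =
      ((∑ χ : Cfsg.IrrCharacter G, a i χ * (d χ j : ℤ) : ℤ) : ℂ) := by
    intro i j
    simp only [N, Matrix.of_apply, AddSubmonoidClass.coe_finsetSum, MulMemClass.coe_mul,
      coe_thetaLoc, htheta, Finset.mul_sum]
    rw [Finset.sum_comm]
    push_cast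
    refine Finset.sum_congr rfl fun χ _ => ?_
    rw [← hd χ j, trAt, Finset.mul_sum]
    exact Finset.sum_congr rfl fun g _ => by rw [mul_one]; ring
  have hdN : ∀ χ : Cfsg.IrrCharacter G, χ ∈ B → ∀ j : I,
      ∑ i : I, (d χ i : ℂ) * ((N i j : localRing M) : ℂ) = (d χ j : ℂ) := by
    intro χ hχ j
    simp only [N, Matrix.of_apply, AddSubmonoidClass.coe_finsetSum, MulMemClass.coe_mul,
      coe_thetaLoc, Finset.mul_sum]
    rw [Finset.sum_comm, ← hd χ j, trAt]
    have h0 := sum_coeff_mul_eq_zero hM (hEE j)
      (f := fun g => (∑ i : I, (d χ i : ℂ) * theta p (ρ i) g) - (χ : G → ℂ) g)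
      (fun u g => by simp only [theta_conj, Cfsg.Agent.H26.irr_conj])
      (fun g hg => by
        rw [sub_eq_zero, hval χ hχ g hg]
        simp [theta, regPart_of_regular hg])
    rw [← sub_eq_zero, ← Finset.sum_sub_distrib]
    refine Eq.trans (Finset.sum_congr rfl fun g _ => ?_) h0
    rw [mul_one, mul_sub, Finset.mul_sum]
    congr 1
    exact Finset.sum_congr rfl fun i _ => by ring
  have hNN : N * N = N := by
    refine Matrix.ext fun i j => Subtype.ext ?_
    rw [Matrix.mul_apply]
    simp only [AddSubmonoidClass.coe_finsetSum, MulMemClass.coe_mul, hN i]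
    push_cast
    simp only [Finset.sum_mul]
    rw [Finset.sum_comm]
    refine Finset.sum_congr rfl fun χ _ => ?_
    simp only [mul_assoc, ← Finset.mul_sum]
    by_cases hχ : χ ∈ B
    · rw [hdN χ hχ j]
    · simp [hd0 χ hχ]
  have hNres : (res M).mapMatrix N = 1 := by
    refine Matrix.ext fun i j => ?_
    rw [RingHom.mapMatrix_apply, Matrix.map_apply]
    simp only [N, Matrix.of_apply, map_sum, map_mul, res_thetaLoc hM]
    have h1 : ∑ g : G, res M ((E j).coeff g) * LinearMap.trace (ResField M) (V i) (ρ i g) =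
        LinearMap.trace (ResField M) (V i) (idemHom (hprim i) (redG M G (E j))) := by
      conv_rhs => rw [eq_sum_coeff_smul_of (redG M G (E j)), map_sum, map_sum]
      refine Finset.sum_congr rfl fun g _ => ?_
      rw [map_smul, map_smul, smul_eq_mul]
      simp [redG, ρ]
    rw [h1, trace_eq_rk ((show IsIdempotentElem (redG M G (E j)) from
      (show IsIdempotentElem (E j) from hEE j).map (redG M G)).map _), hEi]
    by_cases hij : i = j
    · subst hij
      rw [rk_idemHom_self, Nat.cast_one, Matrix.one_apply_eq]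
    · rw [show rk (idemHom (k := ResField M) (hprim i) (j : MonoidAlgebra (ResField M) G)) = 0
        from hmult_ne i j hij, Nat.cast_zero, Matrix.one_apply_ne hij]
  have hN1 : N = 1 := by
    have hdet : IsUnit N.det := Cfsg.Agent.H41.isUnit_iff_res_ne_zero.2 (by
      rw [RingHom.map_det, hNres, Matrix.det_one]
      exact one_ne_zero)
    exact ((Matrix.isUnit_iff_isUnit_det N).2 hdet).mul_left_cancel (by rw [hNN, mul_one])
  refine ⟨⟨↥I, inferInstance, fun i => bchar (ρ i), d, a, fun i u g => bchar_conj (ρ i) u g,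
    fun i x hx => ?_, hval, hd0, fun i => ?_, fun i j hij => ?_, fun i => ?_, fun i => ?_⟩⟩
  · rw [← htheta, theta, regPart_of_regular hx]
  · have h := hN i i
    rw [hN1, Matrix.one_apply_eq] at h
    exact_mod_cast h.symm
  · have h := hN i j
    rw [hN1, Matrix.one_apply_ne hij] at h
    exact_mod_cast h.symm
  · refine ⟨Module.finrank (ResField M) (V i), ?_, bchar_one (ρ i)⟩
    have h := rk_idemHom_self (k := ResField M) (hprim i)
    have h2 : rk (idemHom (k := ResField M) (hprim i) (i : MonoidAlgebra (ResField M) G)) ≤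
        Module.finrank (ResField M) (V i) := Submodule.finrank_le _
    omega
  · -- divisibility of the degree of the projective character
    have hcol : ∀ g : G, ∑ χ : Cfsg.IrrCharacter G, (χ : G → ℂ) g * (χ : G → ℂ) 1 =
        if g = 1 then (Nat.card G : ℂ) else 0 := by
      intro g
      have h := Cfsg.Agent.H26.column_orthogonality g (1 : G)
      have hcent : Subgroup.centralizer ({(1 : G)} : Set G) = ⊤ := by
        ext y
        simp [Subgroup.mem_centralizer_singleton_iff]
      rw [hcent, Subgroup.card_top] at h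
      simp only [Cfsg.Agent.H42.irr_one_eq, Complex.conj_natCast] at h ⊢
      rw [h]
      simp [Cfsg.Agent.H26.classIndicator]
    set S := ∑ χ : Cfsg.IrrCharacter G, d χ i * Cfsg.charDegree (χ : G → ℂ) with hS
    have hsum : (S : ℂ) = (Nat.card G : ℂ) * ((E i).coeff 1 : ℂ) := by
      rw [hS]
      push_cast
      simp only [← hd, trAt, Finset.sum_mul, ← Cfsg.Agent.H42.irr_one_eq]
      rw [Finset.sum_comm]
      simp only [mul_one, mul_assoc, ← Finset.mul_sum, hcol, mul_ite, mul_zero, Finset.sum_ite_eq',
        Finset.mem_univ, if_true]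
      ring
    refine pow_dvd_of_mem_localRing hM _ S
      (((Nat.card G / p ^ (Nat.card G).factorization p : ℕ) : localRing M) * (E i).coeff 1) ?_
    rw [hsum]
    conv_rhs => rw [← Nat.ordProj_mul_ordCompl_eq_self (Nat.card G) p]
    push_cast
    ring

end Cfsg.Agent.H28.IBr
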