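import Cfsg.Agent.H28.IBr.Block
import Cfsg.Agent.H42.BlockSpan

/-!
# Consequences of a system of Brauer characters
-/

set_option autoImplicit false

namespace Cfsg.Agent.H28.IBr

universe u

variable {p : ℕ} [Fact p.Prime] {G : Type u} [Group G] [Fintype G]
  {B : Set (Cfsg.IrrCharacter G)} (S : BrauerSystem p B)

/-- The rank of a block is at most the number of its Brauer characters. -/
theorem blockRank_le_card : Cfsg.blockRank p B ≤ Fintype.card S.ι := by
  classical
  let f : S.ι → G → ℂ := fun i => Cfsg.pRegularPart p (S.φ i)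
  refine le_trans (Submodule.finrank_mono (t := Submodule.span ℂ (Set.range f))
    (Submodule.span_le.2 ?_)) (finrank_range_le_card f)
  rintro _ ⟨χ, hχ, rfl⟩
  have h : Cfsg.pRegularPart p (χ : G → ℂ) = ∑ i, (S.d χ i : ℂ) • f i := by
    funext g
    simp only [Finset.sum_apply, Pi.smul_apply, smul_eq_mul, f, Cfsg.pRegularPart]
    by_cases hg : Cfsg.IsPRegular p g
    · simp only [if_pos hg]
      exact S.decomp χ hχ g hg
    · simp [if_neg hg]
  show Cfsg.pRegularPart p (χ : G → ℂ) ∈ _
  rw [h]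
  exact Submodule.sum_mem _ fun i _ => Submodule.smul_mem _ _ (Submodule.subset_span ⟨i, rfl⟩)

/-- The degrees of the Brauer characters. -/
noncomputable def brauerDegree (i : S.ι) : ℕ := (S.φ_one i).choose

theorem brauerDegree_pos (i : S.ι) : 0 < brauerDegree S i := (S.φ_one i).choose_spec.1

theorem φ_one_eq (i : S.ι) : S.φ i 1 = (brauerDegree S i : ℂ) := (S.φ_one i).choose_spec.2

/-- The degree of the projective indecomposable character. -/
noncomputable def projDegree (i : S.ι) : ℕ :=
  ∑ χ : Cfsg.IrrCharacter G, S.d χ i * Cfsg.charDegree (χ : G → ℂ)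

theorem one_regular : ¬ p ∣ orderOf (1 : G) := by
  simpa using (Fact.out : p.Prime).not_dvd_one

/-- Ordinary degrees through decomposition numbers. -/
theorem degree_eq (χ : Cfsg.IrrCharacter G) (hχ : χ ∈ B) :
    Cfsg.charDegree (χ : G → ℂ) = ∑ i, S.d χ i * brauerDegree S i := by
  have h := S.decomp χ hχ 1 one_regular
  rw [Cfsg.Agent.H42.irr_one_eq] at h
  simp only [φ_one_eq] at h
  exact_mod_cast h

open scoped Classical in
/-- Brauer degrees are integral combinations of the degrees in the block. -/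
theorem brauerDegree_eq (i : S.ι) : (brauerDegree S i : ℤ) =
    ∑ χ ∈ Cfsg.Agent.H42.blockFinset B, S.a i χ * (Cfsg.charDegree (χ : G → ℂ) : ℤ) := by
  have h : ∀ χ ∈ Cfsg.Agent.H42.blockFinset B, S.a i χ * (Cfsg.charDegree (χ : G → ℂ) : ℤ) =
      ∑ j, (brauerDegree S j : ℤ) * (S.a i χ * (S.d χ j : ℤ)) := fun χ hχ => by
    rw [degree_eq S χ (Cfsg.Agent.H42.mem_blockFinset.1 hχ)]
    push_cast
    rw [Finset.mul_sum]
    exact Finset.sum_congr rfl fun j _ => by ring
  rw [Finset.sum_congr rfl h, Finset.sum_comm]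
  simp only [← Finset.mul_sum]
  have hall : ∀ j, ∑ χ ∈ Cfsg.Agent.H42.blockFinset B, S.a i χ * (S.d χ j : ℤ) =
      if i = j then 1 else 0 := by
    intro j
    rw [Finset.sum_subset (Finset.subset_univ _) fun χ _ hχ => by
      rw [S.d_eq_zero χ (fun h => hχ (Cfsg.Agent.H42.mem_blockFinset.2 h)), Nat.cast_zero, mul_zero]]
    split_ifs with hij
    · subst hij; exact S.sum_a_d_self i
    · exact S.sum_a_d_ne i j hij
  simp [hall]

/-- A projective degree is positive. -/
theorem projDegree_pos (i : S.ι) : 0 < projDegree S i := by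
  obtain ⟨χ, -, hχ⟩ := Finset.exists_ne_zero_of_sum_ne_zero
    (s := Finset.univ) (f := fun χ : Cfsg.IrrCharacter G => S.a i χ * (S.d χ i : ℤ))
    (by rw [S.sum_a_d_self i]; exact one_ne_zero)
  have hd : S.d χ i ≠ 0 := fun h => hχ (by simp [h])
  exact Nat.lt_of_lt_of_le (Nat.mul_pos (Nat.pos_of_ne_zero hd) (Cfsg.Agent.H42.charDegree_pos χ))
    (Finset.single_le_sum (f := fun χ : Cfsg.IrrCharacter G => S.d χ i * Cfsg.charDegree (χ : G → ℂ))
      (fun _ _ => Nat.zero_le _) (Finset.mem_univ χ))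

open scoped Classical in
/-- The sum of the squared degrees is the sum of the products of the two degrees. -/
theorem sum_sq_degree_eq :
    ∑ χ ∈ Cfsg.Agent.H42.blockFinset B, Cfsg.charDegree (χ : G → ℂ) ^ 2 =
      ∑ i, brauerDegree S i * projDegree S i := by
  have h : ∀ χ ∈ Cfsg.Agent.H42.blockFinset B, Cfsg.charDegree (χ : G → ℂ) ^ 2 =
      ∑ i, brauerDegree S i * (S.d χ i * Cfsg.charDegree (χ : G → ℂ)) := fun χ hχ => by
    rw [sq]
    nth_rw 1 [degree_eq S χ (Cfsg.Agent.H42.mem_blockFinset.1 hχ)]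
    rw [Finset.sum_mul]
    exact Finset.sum_congr rfl fun i _ => by ring
  rw [Finset.sum_congr rfl h, Finset.sum_comm]
  refine Finset.sum_congr rfl fun i _ => ?_
  rw [← Finset.mul_sum]
  congr 1
  refine Finset.sum_subset (Finset.subset_univ _) fun χ _ hχ => ?_
  rw [S.d_eq_zero χ (fun h => hχ (Cfsg.Agent.H42.mem_blockFinset.2 h)), zero_mul]

end Cfsg.Agent.H28.IBr
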