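import Cfsg.Agent.H28.IBr.Brauer
import Cfsg.Agent.H40.LocalCorner

/-!
# Ranks of idempotents in the simple module of a primitive idempotent
-/

set_option autoImplicit false

namespace Cfsg.Agent.H28.IBr

open Cfsg.Agent.H40

variable {k : Type*} [Field k] [IsAlgClosed k] {A : Type*} [Ring A] [Algebra k A]
  [FiniteDimensional k A]

/-- The simple module of a primitive idempotent as an algebra homomorphism. -/
noncomputable def idemHom {e : A} (he : IsPrimIdem e) :
    A →ₐ[k] Module.End k (A ⧸ idemKer (k := k) he) :=
  AlgHom.ofLinearMap (idemRep he)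
    (Submodule.linearMap_qext _ (LinearMap.ext fun v => congrArg Submodule.Quotient.mk (one_mul v)))
    fun a b => Submodule.linearMap_qext _ (LinearMap.ext fun v =>
      congrArg Submodule.Quotient.mk (mul_assoc a b v))

theorem idemHom_mk {e : A} (he : IsPrimIdem e) (a v : A) :
    idemHom (k := k) he a (Submodule.Quotient.mk v) = Submodule.Quotient.mk (a * v) := rfl

/-- An inequivalent primitive idempotent acts as zero. -/
theorem idemHom_eq_zero {e f : A} (he : IsPrimIdem e) (hf : IsPrimIdem f) (h : ¬ IdemEquiv e f) :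
    idemHom (k := k) he f = 0 := by
  refine Submodule.linearMap_qext _ (LinearMap.ext fun v => ?_)
  show Submodule.Quotient.mk (f * v) = 0
  refine (Submodule.Quotient.mk_eq_zero _).2 fun y => ?_
  by_contra hne
  refine h (he.idemEquiv hf (k := k) (a := y) (b := v) ?_)
  rwa [mul_assoc]

/-- The rank of a product is at most that of the middle factor. -/
theorem rk_mul_mul_le {V : Type*} [AddCommGroup V] [Module k V] [FiniteDimensional k V]
    (x y z : Module.End k V) : rk (x * y * z) ≤ rk y := by
  refine le_trans ?_ (Submodule.finrank_map_le x (LinearMap.range y))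
  refine Submodule.finrank_mono ?_
  rintro _ ⟨v, rfl⟩
  exact ⟨y (z v), ⟨z v, rfl⟩, rfl⟩

/-- A primitive idempotent has rank one in its simple module. -/
theorem rk_idemHom_self {e : A} (he : IsPrimIdem e) : rk (idemHom (k := k) he e) = 1 := by
  have hle : LinearMap.range (idemHom (k := k) he e) ≤
      Submodule.span k {(Submodule.Quotient.mk e : A ⧸ idemKer (k := k) he)} := by
    rintro _ ⟨w, rfl⟩
    obtain ⟨v, rfl⟩ := Submodule.Quotient.mk_surjective _ w
    rw [idemHom_mk]
    refine Submodule.mem_span_singleton.2 ⟨resIdem k e v, ?_⟩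
    rw [← Submodule.Quotient.mk_smul, eq_comm, Submodule.Quotient.eq]
    have h1 : e * v * e - e * v ∈ idemKer (k := k) he := he.sub_mul_mem_idemKer (e * v)
    have h2 : e * v * e - resIdem k e v • e ∈ idemKer (k := k) he := fun y => by
      set n := e * v * e - resIdem k e v • e
      have hn : InCorner e n :=
        (inCorner_sandwich he.idem v).sub ((inCorner_self he.idem).smul _)
      have h0 : resIdem k e n = 0 := he.resIdem_eq (by
        rw [hn.1, hn.2, zero_smul, sub_zero]
        exact he.isNilpotent_sub_resIdem v)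
      calc resIdem k e (y * n) = resIdem k e (y * e * n) := by rw [mul_assoc, hn.1]
        _ = 0 := by rw [he.resIdem_mul, h0, mul_zero]
    have := Submodule.sub_mem _ h2 h1
    rwa [sub_sub_sub_cancel_left] at this
  have h1 : rk (idemHom (k := k) he e) ≤ 1 := by
    refine (Submodule.finrank_mono hle).trans ((finrank_span_le_card _).trans ?_)
    simp
  have h2 : rk (idemHom (k := k) he e) ≠ 0 := by
    intro h0
    have hi : IsIdempotentElem (idemHom (k := k) he e) :=
      (show IsIdempotentElem e from he.idem).map _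
    have ht : LinearMap.trace k _ (idemHom (k := k) he e) = 1 :=
      idemTr_of_idemEquiv he he (idemEquiv_refl he.idem)
    rw [trace_eq_rk hi, h0, Nat.cast_zero] at ht
    exact zero_ne_one ht
  omega

/-- An equivalent primitive idempotent has rank one. -/
theorem rk_idemHom_of_equiv {e f : A} (he : IsPrimIdem e) (hf : IsPrimIdem f) (h : IdemEquiv e f) :
    rk (idemHom (k := k) he f) = 1 := by
  obtain ⟨α, β, -, -, h3, h4⟩ := h
  have h5 : rk (idemHom (k := k) he f) ≤ rk (idemHom (k := k) he e) := by
    rw [show f = β * e * α by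
      rw [← h3, show β * (α * β) * α = (β * α) * (β * α) by simp only [mul_assoc], h4, hf.idem],
      map_mul, map_mul]
    exact rk_mul_mul_le _ _ _
  have h6 : rk (idemHom (k := k) he e) ≤ rk (idemHom (k := k) he f) := by
    have he2 : idemHom (k := k) he e = idemHom (k := k) he (α * f * β) := congrArg _ (by
      rw [← h4, show α * (β * α) * β = (α * β) * (α * β) by simp only [mul_assoc], h3, he.idem])
    rw [he2, map_mul, map_mul]
    exact rk_mul_mul_le _ _ _
  rw [rk_idemHom_self he] at h5 h6
  omega

/-- Equivalence of idempotents is transitive. -/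
theorem idemEquiv_trans {e f g : A} (h : IdemEquiv e f) (h' : IdemEquiv f g) (he : e * e = e)
    (hf : f * f = f) (hg : g * g = g) : IdemEquiv e g := by
  obtain ⟨α, β, h1, h2, h3, h4⟩ := h
  obtain ⟨γ, δ, h5, h6, h7, h8⟩ := h'
  have hαf : α * f = α := by rw [← h1, mul_assoc, hf]
  have hfβ : f * β = β := by rw [← h2, ← mul_assoc, ← mul_assoc, hf]
  have heα : e * α = α := by rw [← h1, ← mul_assoc, ← mul_assoc, he]
  have hβe : β * e = β := by rw [← h2, mul_assoc, he]
  have hγg : γ * g = γ := by rw [← h5, mul_assoc, hg]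
  have hgδ : g * δ = δ := by rw [← h6, ← mul_assoc, ← mul_assoc, hg]
  refine ⟨α * γ, δ * β, ?_, ?_, ?_, ?_⟩
  · rw [← mul_assoc, heα, mul_assoc, hγg]
  · rw [← mul_assoc, hgδ, mul_assoc, hβe]
  · rw [show α * γ * (δ * β) = α * (γ * δ) * β by simp only [mul_assoc], h7, hαf, h3]
  · rw [show δ * β * (α * γ) = δ * (β * α) * γ by simp only [mul_assoc], h4]
    rw [show δ * f = δ by rw [← h6, mul_assoc, hf], h8]

end Cfsg.Agent.H28.IBr
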