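import Cfsg.Agent.H28.IBr.Simple
import Cfsg.Agent.H40.CyclicWords
import Cfsg.Agent.H40.BlockSets
import Cfsg.Agent.H40.CoeffSums
import Cfsg.Agent.H41.Blocks

/-!
# Traces of idempotents of the residue group algebra in ordinary representations
-/

set_option autoImplicit false
set_option maxHeartbeats 400000
set_option synthInstance.maxHeartbeats 200000

open scoped ComplexConjugate

namespace Cfsg.Agent.H28.IBr

open Cfsg.Agent.H41 (ResField localRing res)
open Cfsg.Agent.H40

variable {p : ℕ} [Fact p.Prime] {M : Ideal Cfsg.AlgInt} [M.IsMaximal]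
variable {G : Type*} [Group G] [Fintype G]

theorem supp_all (a : MonoidAlgebra (ResField M) G) :
    Cfsg.Agent.H22.Supp (Subgroup.centralizer ((Subgroup.zpowers (1 : G) : Subgroup G) : Set G)) a :=
  fun x _ => Subgroup.mem_centralizer_iff.2 fun h hh => by
    rw [Subgroup.zpowers_one_eq_bot] at hh
    rw [show h = 1 from hh, one_mul, mul_one]

theorem mem_invAlg_all {R : Type*} [CommRing R] (a : MonoidAlgebra R G) :
    a ∈ invAlg R (Subgroup.zpowers (1 : G)) :=
  mem_invAlg.2 fun q hq x => by
    rw [Subgroup.zpowers_one_eq_bot, Subgroup.mem_bot] at hq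
    rw [hq, one_mul, inv_one, mul_one]

theorem brAt_all (a : MonoidAlgebra (localRing M) G) : brAt (1 : G) a = redG M G a := by
  show Cfsg.Agent.H22.cut _ (redG M G a) = _
  exact Cfsg.Agent.H22.cut_of_supp (supp_all _)

theorem exists_pow_one : ∃ j : ℕ, orderOf (1 : G) = p ^ j := ⟨0, by simp⟩

variable (hM : Cfsg.IsPModular p M) {χ : G → ℂ} (hχ : IsLocTrace M χ)

include hM hχ

/-- The trace of a reduced idempotent is the trace of any lift. -/
theorem trBar_redG {E : MonoidAlgebra (localRing M) G} (hE : E * E = E) :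
    trBar (M := M) 1 χ (redG M G E) = trAt 1 χ E := by
  rw [← brAt_all]
  exact trBar_eq hM (exists_pow_one (p := p)) hχ (mem_invAlg_all E) hE

/-- Equivalent idempotents have equal traces. -/
theorem trBar_idemEquiv {e f : MonoidAlgebra (ResField M) G} (he : e * e = e) (hf : f * f = f)
    (h : IdemEquiv e f) : trBar (M := M) 1 χ e = trBar (M := M) 1 χ f := by
  obtain ⟨α, β, -, -, h3, h4⟩ := h
  rw [← h3, ← h4]
  exact trBar_equiv hM (exists_pow_one (p := p)) hχ (supp_all α) (supp_all β) (by rw [h3, he])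
    (by rw [h4, hf])

/-- Traces of orthogonal idempotents add. -/
theorem trBar_orth {e f : MonoidAlgebra (ResField M) G} (he : e * e = e) (hf : f * f = f)
    (hef : e * f = 0) (hfe : f * e = 0) :
    trBar (M := M) 1 χ (e + f) = trBar (M := M) 1 χ e + trBar (M := M) 1 χ f :=
  trBar_add hM (exists_pow_one (p := p)) hχ (supp_all e) (supp_all f) he hf hef hfe

theorem trBar_zero' : trBar (M := M) (1 : G) χ 0 = 0 :=
  trBar_zero hM (exists_pow_one (p := p)) hχ

omit hM hχ

/-- Reduction of scalar multiples. -/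
theorem redG_smul (r : localRing M) (a : MonoidAlgebra (localRing M) G) :
    redG M G (r • a) = res M r • redG M G a := by
  rw [Algebra.smul_def, map_mul, algebraMap_redG, ← Algebra.smul_def]

/-- Reduction of group elements. -/
theorem redG_of (x : G) :
    redG M G (MonoidAlgebra.of (localRing M) G x) = MonoidAlgebra.of (ResField M) G x := by
  simp [redG]

/-- An element of the group algebra in terms of group elements. -/
theorem eq_sum_coeff_smul_of {R : Type*} [CommRing R] (a : MonoidAlgebra R G) :
    a = ∑ g : G, a.coeff g • MonoidAlgebra.of R G g := by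
  classical
  apply ext_coeff
  intro x
  simp [MonoidAlgebra.of_apply, Finsupp.single_apply]

/-- The trace is linear in the element. -/
theorem trAt_sum_smul {ι : Type*} (s : Finset ι) (r : ι → localRing M)
    (a : ι → MonoidAlgebra (localRing M) G) (χ : G → ℂ) :
    trAt 1 χ (∑ i ∈ s, r i • a i) = ∑ i ∈ s, (r i : ℂ) * trAt 1 χ (a i) := by
  classical
  induction s using Finset.induction with
  | empty => simp
  | @insert i s hi ih =>
    rw [Finset.sum_insert hi, Finset.sum_insert hi, trAt_add, ih]
    congr 1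
    simp [trAt, Finset.mul_sum, mul_assoc]

/-- The trace of a group element is the value. -/
theorem trAt_of (x : G) (χ : G → ℂ) : trAt 1 χ (MonoidAlgebra.of (localRing M) G x) = χ x := by
  classical
  simp [trAt, MonoidAlgebra.of_apply, Finsupp.single_apply, apply_ite (Subtype.val : localRing M → ℂ),
    ite_mul, Finset.sum_ite_eq]

/-- The trace of an idempotent in a representation is a natural number. -/
theorem exists_natCast_trAt {E : MonoidAlgebra (localRing M) G} (hE : E * E = E)
    (ψ : Cfsg.IrrCharacter G) : ∃ n : ℕ, trAt 1 (ψ : G → ℂ) E = n := by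
  obtain ⟨n, ρ, -, hρ⟩ := ψ.2
  let F : MonoidAlgebra (localRing M) G →+* Module.End ℂ (Fin n → ℂ) :=
    (MonoidAlgebra.lift ℂ (Module.End ℂ (Fin n → ℂ)) G ρ).toRingHom.comp
      (MonoidAlgebra.mapRingHom G (localRing M).subtype)
  refine ⟨rk (F E), ?_⟩
  rw [← trace_eq_rk ((show IsIdempotentElem E from hE).map F)]
  have hF : ∀ g : G, ∀ r : localRing M,
      F (r • MonoidAlgebra.of (localRing M) G g) = (r : ℂ) • ρ g := fun g r => by
    simp [F, MonoidAlgebra.of_apply, MonoidAlgebra.smul_single, MonoidAlgebra.lift_single]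
  conv_rhs => rw [eq_sum_coeff_smul_of E, map_sum, map_sum]
  refine Finset.sum_congr rfl fun g _ => ?_
  rw [hF, map_smul, mul_one, smul_eq_mul, ← hρ]
  rfl

/-- The sum of an idempotent against a class function supported on singular elements vanishes. -/
theorem sum_coeff_mul_eq_zero (hM : Cfsg.IsPModular p M) {E : MonoidAlgebra (localRing M) G}
    (hE : E * E = E) {f : G → ℂ} (hf : ∀ u g : G, f (u * g * u⁻¹) = f g)
    (h0 : ∀ g : G, ¬ p ∣ orderOf g → f g = 0) : ∑ g : G, (E.coeff g : ℂ) * f g = 0 := by
  classical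
  rw [← Finset.sum_fiberwise (Finset.univ : Finset G) ConjClasses.mk]
  refine Finset.sum_eq_zero fun C _ => ?_
  obtain ⟨y, rfl⟩ := ConjClasses.exists_rep C
  have hconst : ∀ g ∈ Finset.univ.filter (fun g => ConjClasses.mk g = ConjClasses.mk y),
      f g = f y := fun g hg => by
    obtain ⟨u, hu⟩ := isConj_iff.1 (ConjClasses.mk_eq_mk_iff_isConj.1 (Finset.mem_filter.1 hg).2).symm
    rw [← hu, hf]
  rw [Finset.sum_congr rfl fun g hg => by rw [hconst g hg], ← Finset.sum_mul]
  by_cases hy : p ∣ orderOf y
  · have hz : (∑ x : G, if IsConj y x then E.coeff x else 0) = 0 :=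
      eq_zero_of_forall_pow_dvd hM _ fun n => by
        obtain ⟨z, hz⟩ := exists_classCoeffSum_eq_pow_mul hE hy n
        exact (pow_dvd_pow _ (Nat.le_succ n)).trans ⟨z, hz⟩
    have hcast := congrArg (Subtype.val : localRing M → ℂ) hz
    rw [← Finset.sum_filter] at hcast
    push_cast at hcast
    rw [Finset.filter_congr fun g _ => (ConjClasses.mk_eq_mk_iff_isConj.trans
      ⟨IsConj.symm, IsConj.symm⟩ : ConjClasses.mk g = ConjClasses.mk y ↔ IsConj y g), hcast,
      zero_mul]
  · rw [h0 y hy, mul_zero]

section Block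

variable {B : Set (Cfsg.IrrCharacter G)} (hB : Cfsg.IsPBlock M B)

/-- The block idempotent in the local group ring. -/
noncomputable def locE : MonoidAlgebra (localRing M) G :=
  (Cfsg.Agent.H41.locIdem hB : Cfsg.Agent.H41.groupAlgCenter (localRing M) G)

theorem coe_coeff_locE (g : G) : ((locE hB).coeff g : ℂ) = Cfsg.blockCoeff B g := by
  rw [← Cfsg.Agent.H41.coeff_blockIdem, ← Cfsg.Agent.H41.incl_locIdem hB,
    Cfsg.Agent.H41.coeff_incl]
  rfl

theorem locE_mul_self : locE hB * locE hB = locE hB := by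
  have h : Cfsg.Agent.H41.locIdem hB * Cfsg.Agent.H41.locIdem hB = Cfsg.Agent.H41.locIdem hB := by
    apply Cfsg.Agent.H41.incl_injective M
    rw [map_mul, Cfsg.Agent.H41.incl_locIdem]
    refine Cfsg.Agent.H41.center_ext_omega fun φ => ?_
    rw [map_mul, Cfsg.Agent.H41.omega_blockIdem]
    split <;> simp
  exact congrArg Subtype.val h

theorem commute_locE (a : MonoidAlgebra (localRing M) G) : Commute a (locE hB) :=
  Subalgebra.mem_center_iff.1 (Cfsg.Agent.H41.locIdem hB).2 a

open scoped Classical in
/-- The block idempotent fixes the members of the block and kills the others. -/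
theorem trAt_locE_mul (ψ : Cfsg.IrrCharacter G) (a : MonoidAlgebra (localRing M) G) :
    trAt 1 (ψ : G → ℂ) (locE hB * a) = if ψ ∈ B then trAt 1 (ψ : G → ℂ) a else 0 := by
  have h1 : trAt 1 (ψ : G → ℂ) (locE hB * a) =
      ∑ y : G, (a.coeff y : ℂ) * ∑ x : G, Cfsg.blockCoeff B x * (ψ : G → ℂ) (x * y) := by
    simp only [trAt, coeff_mul_eq_sum, AddSubmonoidClass.coe_finsetSum, MulMemClass.coe_mul,
      Finset.sum_mul, Finset.mul_sum]
    rw [Finset.sum_comm]
    rw [Finset.sum_comm (f := fun y x => (a.coeff y : ℂ) * (Cfsg.blockCoeff B x * (ψ : G → ℂ) (x * y)))]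
    refine Finset.sum_congr rfl fun x _ => ?_
    refine Fintype.sum_equiv (Equiv.mulLeft x⁻¹) _ _ fun g => ?_
    rw [coe_coeff_locE hB]
    simp only [Equiv.coe_mulLeft, mul_inv_cancel_left, mul_one]
    ring
  rw [h1]
  simp only [sum_blockCoeff_mul_irr, mul_ite, mul_zero]
  split <;> simp [trAt]

end Block

end Cfsg.Agent.H28.IBr
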